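import Groth.Agent.NormCoker.Basic
import Groth.Agent.NormSmoothBC.Basic
import Groth.Agent.Nagata.Scheme
import Groth.Agent.Nagata.Japanese
import Groth.Agent.BlowUpExist.Proper
import Groth.Prelude.Def_BlowUp2

/-!
Normalized blow-up of a Nagata scheme.
-/

set_option autoImplicit false
set_option backward.isDefEq.respectTransparency false
set_option linter.style.haveILetI false

universe u

open CategoryTheory CategoryTheory.Limits AlgebraicGeometry TopologicalSpace

namespace Groth.Agent.NormBlow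

theorem isNagata_of_lft {X Y : Scheme.{u}} (b : Y ⟶ X) [LocallyOfFiniteType b]
    (hN : ∀ U : X.affineOpens, CAlg.IsNagata Γ(X, U.1)) (V : Y.affineOpens) : CAlg.IsNagata Γ(Y, V.1) := by
  let ι := {p : Y.affineOpens × X.affineOpens // p.1.1 ≤ b ⁻¹ᵁ p.2.1}
  refine Nagata.isNagata_affine (fun i : ι => i.1.1.1) ?_ (fun i => i.1.1.2) (fun i => ?_) V.1 V.2
  · refine eq_top_iff.2 fun y _ => ?_
    obtain ⟨U, hU, hyU, -⟩ := exists_isAffineOpen_mem_and_subset (x := b y) (U := (⊤ : X.Opens)) trivial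
    obtain ⟨W, hW, hyW, hWU⟩ := exists_isAffineOpen_mem_and_subset (x := y) (U := b ⁻¹ᵁ U) hyU
    exact Opens.mem_iSup.2 ⟨⟨(⟨W, hW⟩, ⟨U, hU⟩), hWU⟩, hyW⟩
  · have h : RingHom.FiniteType (b.appLE i.1.2.1 i.1.1.1 i.2).hom :=
      HasRingHomProperty.appLE (P := @LocallyOfFiniteType) b inferInstance i.1.2 i.1.1 i.2
    letI := (b.appLE i.1.2.1 i.1.1.1 i.2).hom.toAlgebra
    haveI : Algebra.FiniteType Γ(X, i.1.2.1) Γ(Y, i.1.1.1) := h
    exact Nagata.isNagata_of_finiteType (R := Γ(X, i.1.2.1)) (hN i.1.2)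

theorem main (X : Scheme.{u}) [IsLocallyNoetherian X] (hN : ∀ U : X.affineOpens, CAlg.IsNagata Γ(X, U.1)) (x : X)
    (hx : IsClosed ({x} : Set X)) (X' : Scheme.{u}) (b : X' ⟶ X)
    (hb : BlowUp.IsBlowUp b (Scheme.IdealSheafData.vanishingIdeal ⟨{x}, hx⟩)) [IsIntegral X']
    [QuasiCompact (X'.fromSpecStalk (genericPoint X'))] [QuasiSeparated (X'.fromSpecStalk (genericPoint X'))] :
    Pi1.IsNormalScheme (Curv2.normalization X') ∧
      (∀ U : (Curv2.normalization X').affineOpens, CAlg.IsNagata Γ(Curv2.normalization X', U.1)) ∧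
      IsProper (Curv2.normalizationι X' ≫ b) := by
  haveI : IsProper b := BlowUpExist.isProper_of_isFiniteType hb fun U => by
    haveI : IsNoetherianRing Γ(X, U.1) := IsLocallyNoetherian.component_noetherian U
    exact IsNoetherian.noetherian _
  haveI : IsFinite (Curv2.normalizationι X') := NormCoker.isFinite_normalizationι X' (isNagata_of_lft b hN)
  exact ⟨NormSmoothBC.isNormal, isNagata_of_lft (Curv2.normalizationι X' ≫ b) hN, inferInstance⟩

end Groth.Agent.NormBlow
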