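import Groth.Agent.BiratFib.Basic
import Groth.Agent.Purity.QfBirational
import Groth.Agent.PtBlow.Birat
import Groth.Agent.RZExt.Graph
import Groth.Agent.RZExt.Strict
import Groth.Agent.Nakai.SemiAmple
import Groth.Agent.NormChar.Basic
import Groth.Agent.StrictRat.Main

/-!
Graphs of birational correspondences between proper birational modifications of a normal surface.
-/

set_option autoImplicit false
set_option backward.isDefEq.respectTransparency false
set_option backward.isDefEq.respectTransparency.types false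
set_option linter.style.haveILetI false

universe u

open CategoryTheory CategoryTheory.Limits AlgebraicGeometry TopologicalSpace

noncomputable section

namespace Groth.Agent.NormBlow

/-- graph closure of a morphism defined on a nonempty open -/
theorem exists_graph {S X Y : Scheme.{u}} [IsIntegral X] [IsNoetherian X] (pX : X ⟶ S) (pY : Y ⟶ S) [IsProper pY]
    (U : X.Opens) (hU : (U : Set X).Nonempty) (φ : (U : Scheme.{u}) ⟶ Y) (hφ : φ ≫ pY = U.ι ≫ pX) :
    ∃ (Γ : Scheme.{u}) (j : Γ ⟶ pullback pX pY) (s : (U : Scheme.{u}) ⟶ Γ), IsClosedImmersion j ∧ IsIntegral Γ ∧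
      IsProper (j ≫ pullback.fst pX pY) ∧ IsIso ((j ≫ pullback.fst pX pY) ∣_ U) ∧
      s ≫ j ≫ pullback.fst pX pY = U.ι ∧ s ≫ j ≫ pullback.snd pX pY = φ := by
  let γ : (U : Scheme.{u}) ⟶ pullback pX pY := pullback.lift U.ι φ hφ.symm
  haveI : Nonempty U.toScheme := hU.to_subtype
  haveI : IsIntegral U.toScheme := inferInstance
  haveI : CompactSpace U.toScheme := isCompact_iff_compactSpace.1 (NoetherianSpace.isCompact (U : Set X))
  haveI : QuasiCompact γ := by
    haveI : QuasiCompact (γ ≫ pullback.fst pX pY) := by rw [pullback.lift_fst]; infer_instance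
    exact QuasiCompact.of_comp γ (pullback.fst pX pY)
  have key : ∀ (k : U.toScheme ⟶ X), k = U.ι → IsIso (k ∣_ U) := by
    rintro _ rfl
    have h1 : U.ι ⁻¹ᵁ U = ⊤ := top_le_iff.1 fun z _ => z.2
    haveI : IsIso (U.ι ⁻¹ᵁ U).ι := by rw [h1, ← Scheme.topIso_hom]; infer_instance
    rw [show U.ι ∣_ U = (U.ι ⁻¹ᵁ U).ι by rw [← cancel_mono U.ι, morphismRestrict_ι]]
    infer_instance
  haveI : IsClosedImmersion (γ ∣_ (pullback.fst pX pY ⁻¹ᵁ U)) := by
    haveI : IsClosedImmersion (γ ∣_ (pullback.fst pX pY ⁻¹ᵁ U) ≫ pullback.fst pX pY ∣_ U) := by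
      rw [← morphismRestrict_comp]
      haveI := key _ (pullback.lift_fst U.ι φ hφ.symm)
      infer_instance
    exact IsClosedImmersion.of_comp (γ ∣_ (pullback.fst pX pY ⁻¹ᵁ U)) (pullback.fst pX pY ∣_ U)
  haveI := RZExt.isIso_toImage_restrict γ (pullback.fst pX pY ⁻¹ᵁ U)
  let f := γ.imageι ≫ pullback.fst pX pY
  have hTf : γ.toImage ≫ f = U.ι := by
    rw [show γ.toImage ≫ f = (γ.toImage ≫ γ.imageι) ≫ pullback.fst pX pY from (Category.assoc _ _ _).symm,
      Scheme.Hom.toImage_imageι, pullback.lift_fst]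
  haveI : IsIso (f ∣_ U) := by
    have h1 : γ.toImage ∣_ (f ⁻¹ᵁ U) ≫ f ∣_ U = (γ.toImage ≫ f) ∣_ U := (morphismRestrict_comp _ _ _).symm
    haveI : IsIso (γ.toImage ∣_ (f ⁻¹ᵁ U) ≫ f ∣_ U) := h1.symm ▸ key _ hTf
    haveI : IsIso (γ.toImage ∣_ (f ⁻¹ᵁ U)) :=
      ‹IsIso (γ.toImage ∣_ (γ.imageι ⁻¹ᵁ (pullback.fst pX pY ⁻¹ᵁ U)))›
    exact IsIso.of_isIso_comp_left (γ.toImage ∣_ (f ⁻¹ᵁ U)) (f ∣_ U)
  refine ⟨γ.image, γ.imageι, γ.toImage, inferInstance, Nakai.isIntegral_image γ, inferInstance, ‹_›, hTf, ?_⟩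
  rw [Scheme.Hom.toImage_imageι_assoc, pullback.lift_snd]

theorem mem_of_nonempty {X : Scheme.{u}} [IsIntegral X] {V : X.Opens} (hV : (V : Set X).Nonempty) :
    genericPoint X ∈ V :=
  ((genericPoint_spec X).mem_open_set_iff V.2).2 (by simpa using hV)

theorem dense_of_nonempty {X : Scheme.{u}} [IsIntegral X] {V : X.Opens} (hV : (V : Set X).Nonempty) :
    Dense (V : Set X) :=
  V.2.dense hV

/-- correspondence of two proper birational modifications -/
theorem exists_correspondence {X Z T : Scheme.{u}} [IsIntegral X] [IsIntegral Z] [IsIntegral T] [IsNoetherian Z]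
    (g : Z ⟶ X) (π : T ⟶ X) [IsProper g] [IsProper π] (V : X.Opens) (hV : (V : Set X).Nonempty)
    (hg : IsIso (g ∣_ V)) (hπ : IsIso (π ∣_ V)) :
    ∃ (Γ : Scheme.{u}) (j : Γ ⟶ pullback g π), IsClosedImmersion j ∧ IsIntegral Γ ∧
      IsProper (j ≫ pullback.fst g π) ∧ IsProper (j ≫ pullback.snd g π) ∧
      IsIso ((j ≫ pullback.fst g π) ∣_ g ⁻¹ᵁ V) ∧ IsIso ((j ≫ pullback.snd g π) ∣_ π ⁻¹ᵁ V) := by
  haveI := hg
  haveI := hπ
  obtain ⟨Γ, j, s, hj, hΓ, hp, hiso, -, -⟩ := exists_graph g π (g ⁻¹ᵁ V) (PtBlow.nonempty_preimage hV hg)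
    ((g ∣_ V) ≫ inv (π ∣_ V) ≫ (π ⁻¹ᵁ V).ι) (by
      have h : (π ⁻¹ᵁ V).ι ≫ π = (π ∣_ V) ≫ V.ι := (morphismRestrict_ι π V).symm
      rw [Category.assoc, Category.assoc, h, IsIso.inv_hom_id_assoc, morphismRestrict_ι])
  haveI := hj
  refine ⟨Γ, j, hj, hΓ, hp, inferInstance, hiso, PtBlow.isIso_restrict_left (g := (j ≫ pullback.fst g π) ≫ g) ?_ V ?_ hπ⟩
  · simp only [Category.assoc, pullback.condition]
  · haveI := hiso
    rw [morphismRestrict_comp]
    infer_instance

/-- proper birational to a normal scheme: isomorphism of stalks over points of codimension at most one -/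
theorem isIso_stalkMap_of_codim_one {Z T : Scheme.{u}} [IsIntegral Z] [IsIntegral T] [IsNoetherian T] (p : Z ⟶ T)
    [IsProper p] (hT : Pi1.IsNormalScheme T) (V : T.Opens) (hV : (V : Set T).Nonempty) (hiso : IsIso (p ∣_ V))
    (z : Z) (hz : ringKrullDim (T.presheaf.stalk (p z)) ≤ 1) : IsIso (p.stalkMap z) := by
  haveI := hiso
  haveI := LocallyOfFiniteType.isLocallyNoetherian p
  have hd : Dense ((p ⁻¹ᵁ V : Z.Opens) : Set Z) := dense_of_nonempty (PtBlow.nonempty_preimage hV hiso)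
  have hlqf : LocallyQuasiFinite ((p ⁻¹ᵁ V).ι ≫ p) := by
    rw [← morphismRestrict_ι p V]
    infer_instance
  have hgen : ∀ η : Z, SpQS.IsMaxPt η → p η ⤳ p z → p.QuasiFiniteAt η := fun η hη _ =>
    (Scheme.Hom.quasiFiniteAt_comp_iff_of_isOpenImmersion (f := (p ⁻¹ᵁ V).ι) (g := p)
      (x := ⟨η, SpQS.isMaxPt_mem_of_dense hη (p ⁻¹ᵁ V).isOpen hd⟩)).1 (Scheme.Hom.quasiFiniteAt _ _)
  have hqf := SpQS.qf_over_codim_one p (p z) hz hgen z rfl
  obtain ⟨W, hzW, hW⟩ := Purity.exists_isOpenImmersion_of_quasiFiniteAt p (fun y => (hT y).2)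
    ⟨p ⁻¹ᵁ V, PtBlow.nonempty_preimage hV hiso, by rw [← morphismRestrict_ι p V]; infer_instance⟩ z hqf
  haveI := hW
  have h1 : IsIso ((W.ι ≫ p).stalkMap ⟨z, hzW⟩) := inferInstance
  rw [Scheme.Hom.stalkMap_comp] at h1
  exact @IsIso.of_isIso_comp_right _ _ _ _ _ (p.stalkMap (W.ι ⟨z, hzW⟩)) (W.ι.stalkMap ⟨z, hzW⟩) inferInstance h1

theorem isIso_of_bijective_app {X Y : Scheme.{u}} (f : X ⟶ Y) [IsAffineHom f]
    (h : ∀ U : Y.Opens, Function.Bijective (f.app U)) : IsIso f := by
  rw [show IsIso f ↔ MorphismProperty.isomorphisms Scheme f from Iff.rfl,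
    IsZariskiLocalAtTarget.iff_of_iSup_eq_top (P := MorphismProperty.isomorphisms Scheme) _ (iSup_affineOpens_eq_top Y)]
  intro U
  show IsIso (f ∣_ U.1)
  haveI : IsAffine U.1.toScheme := U.2
  haveI : IsAffine (f ⁻¹ᵁ U.1).toScheme := U.2.preimage f
  haveI : IsIso ((f ∣_ U.1).appTop) := by
    rw [ConcreteCategory.isIso_iff_bijective]
    have h' := h (U.1.ι ''ᵁ ⊤)
    rw [← ConcreteCategory.isIso_iff_bijective] at h' ⊢
    haveI := h'
    rw [Scheme.Hom.appTop, morphismRestrict_app]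
    infer_instance
  haveI : IsIso ((f ∣_ U.1) ≫ U.1.toScheme.isoSpec.hom) := by
    rw [← Scheme.isoSpec_hom_naturality]
    infer_instance
  exact IsIso.of_isIso_comp_right (f ∣_ U.1) U.1.toScheme.isoSpec.hom

/-- proper birational with finite fibres onto a normal scheme is an isomorphism -/
theorem isIso_of_finite_fibres {Z T : Scheme.{u}} [IsIntegral Z] [IsIntegral T] (p : Z ⟶ T) [IsProper p]
    (hT : Pi1.IsNormalScheme T) (V : T.Opens) (hV : (V : Set T).Nonempty) (hiso : IsIso (p ∣_ V))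
    (hfin : ∀ y : T, (p ⁻¹' {y}).Finite) : IsIso p := by
  haveI := hiso
  haveI := LocallyQuasiFinite.of_finite_preimage_singleton p hfin
  haveI := IsFinite.of_isProper_of_locallyQuasiFinite p
  exact isIso_of_bijective_app p (PtBlow.bijective_app_of_birational p hT V hV)

/-- two points of a fibre product with the same images, the first closed, are not proper specialisations -/
theorem eq_of_specializes_pullback {X Z T : Scheme.{u}} (g : Z ⟶ X) (π : T ⟶ X) [IsProper g] {x : Z}
    (hx : IsClosed ({x} : Set Z)) {p p' : (pullback g π : Scheme.{u})} (h : p ⤳ p') (hp : pullback.fst g π p = x)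
    (hp' : pullback.fst g π p' = x) (he : pullback.snd g π p = pullback.snd g π p') : p = p' := by
  let i := Z.fromSpecResidueField x
  haveI : IsClosedImmersion i := (isClosed_singleton_iff_isClosedImmersion).1 hx
  haveI : IsFinite (i ≫ g) := by
    haveI : LocallyQuasiFinite (i ≫ g) := LocallyQuasiFinite.of_finite_preimage_singleton _ fun _ => Set.toFinite _
    exact IsFinite.of_isProper_of_locallyQuasiFinite _
  let k := pullback.snd i (pullback.fst g π)
  have hr : Set.range k = pullback.fst g π ⁻¹' {x} := by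
    rw [Scheme.Pullback.range_snd, Scheme.range_fromSpecResidueField]
  obtain ⟨q, hq⟩ : p ∈ Set.range k := hr ▸ hp
  obtain ⟨q', hq'⟩ : p' ∈ Set.range k := hr ▸ hp'
  have hs : q ⤳ q' := k.isClosedEmbedding.toIsInducing.specializes_iff.1 (by rw [hq, hq']; exact h)
  haveI : IsIntegralHom (k ≫ pullback.snd g π) := by
    have e : k ≫ pullback.snd g π = (pullbackRightPullbackFstIso g π i).hom ≫ pullback.snd (i ≫ g) π := by
      simp [k]
    rw [e]
    haveI : IsIntegralHom (pullback.snd (i ≫ g) π) := inferInstance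
    infer_instance
  rw [← hq, ← hq', NormChar.eq_of_specializes (k ≫ pullback.snd g π) hs (by
    rw [Scheme.Hom.comp_apply, Scheme.Hom.comp_apply, hq, hq', he])]

theorem topologicalKrullDim_le_of_stalks {X : Scheme.{u}} (n : WithBot ℕ∞) (hn : 0 ≤ n)
    (h : ∀ x : X, ringKrullDim (X.presheaf.stalk x) ≤ n) : topologicalKrullDim X ≤ n := by
  rw [Groth.Agent.CartierDim.topDim_eq]
  rcases isEmpty_or_nonempty X with hX | hX
  · rw [Order.krullDim_eq_bot]
    exact bot_le
  rw [Order.krullDim_eq_iSup_coheight_of_nonempty]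
  obtain ⟨x⟩ := hX
  cases n with
  | bot => simp at hn
  | coe n =>
    refine WithBot.coe_le_coe.2 (iSup_le fun y => ?_)
    have := h y
    rw [ringKrullDim_stalk_eq_coheight] at this
    exact WithBot.coe_le_coe.1 this

theorem topologicalKrullDim_le_of_integral {X Y : Scheme.{u}} (f : X ⟶ Y) [IsIntegralHom f] :
    topologicalKrullDim X ≤ topologicalKrullDim Y := by
  rw [Groth.Agent.CartierDim.topDim_eq, Groth.Agent.CartierDim.topDim_eq]
  refine Order.krullDim_le_of_strictMono (fun x => f x) fun a b hab => ?_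
  have hs : b ⤳ a := hab.le
  exact GrpField.lt_of_specializes (hs.map f.continuous) fun e => hab.ne
    (NormChar.eq_of_specializes f hs e).symm

theorem dim_le_of_birational {X Y : Scheme.{u}} [IsIntegral X] [IsIntegral Y] [IsNoetherian Y] (f : X ⟶ Y)
    [IsProper f] (V : Y.Opens) (hV : (V : Set Y).Nonempty) (hiso : IsIso (f ∣_ V)) {n : WithBot ℕ∞} (hn : 0 ≤ n)
    (hY : topologicalKrullDim Y ≤ n) : topologicalKrullDim X ≤ n := by
  haveI := hiso
  exact topologicalKrullDim_le_of_stalks n hn fun x =>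
    (StrictRat.dim_le f V hV x).trans ((RegDual.ringKrullDim_stalk_le_topologicalKrullDim _).trans hY)

theorem dim_le_one_of_not_isClosed {X : Scheme.{u}} (hdim : topologicalKrullDim X ≤ 2) {x : X}
    (hx : ¬ IsClosed ({x} : Set X)) : ringKrullDim (X.presheaf.stalk x) ≤ 1 := by
  have h2 := (RegDual.ringKrullDim_stalk_le_topologicalKrullDim x).trans hdim
  have hne : ringKrullDim (X.presheaf.stalk x) ≠ 2 := fun h => hx (PtBlow.isClosed_of_dim_two hdim h)
  have hlt := lt_of_le_of_ne h2 hne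
  rw [ringKrullDim_stalk_eq_coheight] at hlt ⊢
  have : Order.coheight x < 2 := WithBot.coe_lt_coe.1 hlt
  refine WithBot.coe_le_coe.2 ?_
  exact ENat.lt_coe_add_one_iff.1 (show Order.coheight x < ((1 : ℕ) : ℕ∞) + 1 by exact_mod_cast this)

end Groth.Agent.NormBlow
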