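import Groth.Agent.NormBlow.Step

/-!
Centres of codimension one points on normalized blow-ups: they become non-closed.
-/

set_option autoImplicit false
set_option backward.isDefEq.respectTransparency false
set_option backward.isDefEq.respectTransparency.types false
set_option linter.style.haveILetI false

universe u

open CategoryTheory CategoryTheory.Limits AlgebraicGeometry TopologicalSpace
open IsLocalRing (maximalIdeal closedPoint residue)

noncomputable section

namespace Groth.Agent.NormBlow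

variable {X Z T : Scheme.{u}}

/-- functions on `A` as elements of the local ring at a point over `A` -/
def coord (π : T ⟶ X) (A : X.Opens) (τ : T) (h : π τ ∈ A) : Γ(X, A) →+* T.presheaf.stalk τ :=
  (π.app A ≫ T.presheaf.germ (π ⁻¹ᵁ A) τ h).hom

theorem stalkSpecializes_injective [IsIntegral T] {a b : T} (h : a ⤳ b) :
    Function.Injective (T.presheaf.stalkSpecializes h).hom := by
  rw [injective_iff_map_eq_zero]
  intro z hz
  obtain ⟨U, hbU, s, rfl⟩ := T.presheaf.exists_germ_eq z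
  rw [← CommRingCat.comp_apply, TopCat.Presheaf.germ_stalkSpecializes] at hz
  rw [germ_injective_of_isIntegral T a (h.mem_open U.2 hbU) (hz.trans (map_zero _).symm), map_zero]

theorem exists_frac_generic [IsIntegral X] {A : X.Opens} (hA : IsAffineOpen A) (x : X) (hxe : x = genericPoint X)
    (hxA : x ∈ A) (w : X.presheaf.stalk x) :
    ∃ a b : Γ(X, A), b ≠ 0 ∧ w * X.presheaf.germ A x hxA b = X.presheaf.germ A x hxA a := by
  subst hxe
  haveI : Nonempty A := ⟨⟨_, hxA⟩⟩
  haveI := functionField_isFractionRing_of_isAffineOpen X A hA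
  obtain ⟨⟨a, b⟩, hab⟩ := IsLocalization.surj (nonZeroDivisors Γ(X, A)) (S := X.functionField) w
  exact ⟨a, b.1, nonZeroDivisors.ne_zero b.2, hab⟩

/-- every element of a local ring of `T` is a fraction of functions on an affine open of `X` -/
theorem exists_frac [IsIntegral X] [IsIntegral T] (π : T ⟶ X) [IsProper π] (V : X.Opens) (hV : (V : Set X).Nonempty)
    (hπ : IsIso (π ∣_ V)) {A : X.Opens} (hA : IsAffineOpen A) (τ : T) (hτ : π τ ∈ A) (z : T.presheaf.stalk τ) :
    ∃ a b : Γ(X, A), coord π A τ hτ b ≠ 0 ∧ z * coord π A τ hτ b = coord π A τ hτ a := by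
  haveI := hπ
  have hs := genericPoint_specializes τ
  have hη : π (genericPoint T) = genericPoint X := StrictRat.map_genericPoint' π V hV
  have hηA : π (genericPoint T) ∈ A := (hs.map π.continuous).mem_open A.2 hτ
  have hηV : π (genericPoint T) ∈ V := hη ▸ mem_of_nonempty hV
  haveI : IsIso (π.stalkMap (genericPoint T)) :=
    ((MorphismProperty.isomorphisms CommRingCat).arrow_mk_iso_iff
      (morphismRestrictStalkMap π V ⟨genericPoint T, hηV⟩)).1
      (inferInstance : IsIso ((π ∣_ V).stalkMap ⟨genericPoint T, hηV⟩))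
  have key : ∀ a : Γ(X, A), (T.presheaf.stalkSpecializes hs).hom (coord π A τ hτ a) =
      π.stalkMap (genericPoint T) (X.presheaf.germ A _ hηA a) := fun a => by
    simp [coord]
    exact ConcreteCategory.congr_hom (TopCat.Presheaf.germ_stalkSpecializes T.presheaf hτ hs) _
  obtain ⟨a, b, hb, hab⟩ := exists_frac_generic hA _ hη hηA
    (inv (π.stalkMap (genericPoint T)) ((T.presheaf.stalkSpecializes hs).hom z))
  refine ⟨a, b, fun h => hb ?_, stalkSpecializes_injective hs ?_⟩
  · have h1 := key b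
    rw [h, map_zero] at h1
    have h2 : X.presheaf.germ A _ hηA b = 0 :=
      (ConcreteCategory.bijective_of_isIso (π.stalkMap (genericPoint T))).1 (h1.symm.trans (map_zero _).symm)
    exact germ_injective_of_isIntegral X _ hηA (h2.trans (map_zero _).symm)
  · have h1 := congrArg (π.stalkMap (genericPoint T)) hab
    rw [map_mul, ← CommRingCat.comp_apply, IsIso.inv_hom_id, CommRingCat.id_apply] at h1
    rw [map_mul, key, key]
    exact h1

/-- the residue of some element is not integral over `A` -/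
theorem exists_not_integral (π : T ⟶ X) {A : X.Opens} (hA : IsAffineOpen A) (τ : T) (hτA : π τ ∈ A)
    (hτ : ¬ IsClosed ({τ} : Set T)) (hx : IsClosed ({π τ} : Set X)) :
    ∃ z : T.presheaf.stalk τ,
      ¬ ((residue (T.presheaf.stalk τ)).comp (coord π A τ hτA)).IsIntegralElem (residue _ z) := by
  obtain ⟨τ', hτ', hne⟩ : ∃ τ', τ ⤳ τ' ∧ τ' ≠ τ := by
    by_contra h
    push Not at h
    exact hτ (closure_eq_iff_isClosed.1 (Set.Subset.antisymm
      (fun w hw => h w (specializes_iff_mem_closure.2 hw)) subset_closure))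
  have hπ' : π τ' = π τ := by
    have h' : π τ' ∈ closure ({π τ} : Set X) := specializes_iff_mem_closure.1 (hτ'.map π.continuous)
    rwa [hx.closure_eq] at h'
  obtain ⟨W, hW, hτ'W, hWle⟩ := exists_isAffineOpen_mem_and_subset (x := τ') (U := π ⁻¹ᵁ A)
    (show π τ' ∈ A from hπ' ▸ hτA)
  have hτW : τ ∈ W := hτ'.mem_open W.2 hτ'W
  have hWA : W ≤ π ⁻¹ᵁ A := fun w hw => hWle hw
  let q := hW.primeIdealOf ⟨τ, hτW⟩
  let q' := hW.primeIdealOf ⟨τ', hτ'W⟩
  have hle : q.asIdeal ≤ q'.asIdeal := by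
    refine (PrimeSpectrum.asIdeal_le_asIdeal q q').2 ((PrimeSpectrum.le_iff_specializes q q').2 ?_)
    refine hW.fromSpec.isOpenEmbedding.toIsInducing.specializes_iff.1 ?_
    rw [hW.fromSpec_primeIdealOf, hW.fromSpec_primeIdealOf]
    exact hτ'
  obtain ⟨z₀, hz', hz⟩ : ∃ z₀, z₀ ∈ q'.asIdeal ∧ z₀ ∉ q.asIdeal := SetLike.not_le_iff_exists.1 fun h => hne (by
    have e : q' = q := PrimeSpectrum.ext (le_antisymm h hle)
    have := congrArg hW.fromSpec e
    rwa [hW.fromSpec_primeIdealOf, hW.fromSpec_primeIdealOf] at this)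
  refine ⟨T.presheaf.germ W τ hτW z₀, fun ⟨p, hp, hp0⟩ => ?_⟩
  have hhom : (residue (T.presheaf.stalk τ)).comp (coord π A τ hτA) =
      ((residue (T.presheaf.stalk τ)).comp (T.presheaf.germ W τ hτW).hom).comp (π.appLE A W hWA).hom := by
    ext a
    simp [coord, Scheme.Hom.appLE]
  rw [hhom] at hp0
  have hp1 : residue (T.presheaf.stalk τ) (T.presheaf.germ W τ hτW (p.eval₂ (π.appLE A W hWA).hom z₀)) = 0 := by
    rw [← hp0]
    exact Polynomial.hom_eval₂ p (π.appLE A W hWA).hom
      ((residue (T.presheaf.stalk τ)).comp (T.presheaf.germ W τ hτW).hom) z₀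
  have hloc := hW.isLocalization_stalk ⟨τ, hτW⟩
  letI := TopCat.Presheaf.algebra_section_stalk T.presheaf (⟨τ, hτW⟩ : W)
  have hp2 : p.eval₂ (π.appLE A W hWA).hom z₀ ∈ q.asIdeal :=
    (@IsLocalization.AtPrime.to_map_mem_maximal_iff _ _ (T.presheaf.stalk τ) _ _ _ _ hloc
      (p.eval₂ (π.appLE A W hWA).hom z₀) inferInstance).1 ((IsLocalRing.residue_eq_zero_iff _).1 hp1)
  have hcomap : q'.asIdeal.comap (π.appLE A W hWA).hom = q.asIdeal.comap (π.appLE A W hWA).hom := by
    have e1 := IsAffineOpen.comap_primeIdealOf_appLE A hA W hW hWA hτW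
    have e2 := IsAffineOpen.comap_primeIdealOf_appLE A hA W hW hWA hτ'W
    have e3 : hA.primeIdealOf ⟨π τ', hWA hτ'W⟩ = hA.primeIdealOf ⟨π τ, hWA hτW⟩ :=
      congrArg hA.primeIdealOf (Subtype.ext hπ')
    rw [e3, ← e1] at e2
    exact congrArg PrimeSpectrum.asIdeal e2
  haveI : (q.asIdeal.comap (π.appLE A W hWA).hom).IsPrime := inferInstance
  haveI : Nontrivial (Γ(X, A) ⧸ q.asIdeal.comap (π.appLE A W hWA).hom) := inferInstance
  obtain ⟨i, hi, hi'⟩ := Ideal.exists_coeff_mem_comap_sdiff_comap_of_root_mem_sdiff (f := (π.appLE A W hWA).hom)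
    hle ⟨hz', hz⟩ (hp.map _).ne_zero hp2
  exact hi' (hcomap ▸ hi)

/-- residues at closed points of a proper modification are integral -/
theorem isIntegralElem_residue (g : Z ⟶ X) [IsProper g] (c : Z) (hc : IsClosed ({c} : Set Z)) {A : X.Opens}
    (hA : IsAffineOpen A) (hcA : g c ∈ A) (x : IsLocalRing.ResidueField (Z.presheaf.stalk c)) :
    ((residue (Z.presheaf.stalk c)).comp (coord g A c hcA)).IsIntegralElem x := by
  obtain ⟨W, hW, hcW, hWle⟩ := exists_isAffineOpen_mem_and_subset (x := c) (U := g ⁻¹ᵁ A) hcA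
  have hWA : W ≤ g ⁻¹ᵁ A := fun w hw => hWle hw
  let θ : Γ(X, A) ⟶ Z.residueField c := g.appLE A W hWA ≫ Z.presheaf.germ W c hcW ≫ Z.residue c
  have hθ : Spec.map θ ≫ hA.fromSpec = Z.fromSpecResidueField c ≫ g := by
    simp only [θ, Spec.map_comp, Category.assoc, IsAffineOpen.SpecMap_appLE_fromSpec g hA hW hWA,
      Scheme.fromSpecResidueField]
    rw [← hW.fromSpecStalk_eq_fromSpecStalk hcW]
    rfl
  haveI : IsClosedImmersion (Z.fromSpecResidueField c) := (isClosed_singleton_iff_isClosedImmersion).1 hc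
  haveI : IsProper (Spec.map θ) := by
    haveI : IsProper (Spec.map θ ≫ hA.fromSpec) := by rw [hθ]; infer_instance
    exact IsProper.of_comp (Spec.map θ) hA.fromSpec
  haveI : LocallyQuasiFinite (Spec.map θ) :=
    LocallyQuasiFinite.of_finite_preimage_singleton _ fun _ => Set.toFinite _
  have hfin : θ.hom.Finite := (IsFinite.SpecMap_iff θ).1 (IsFinite.of_isProper_of_locallyQuasiFinite _)
  have hhom : (residue (Z.presheaf.stalk c)).comp (coord g A c hcA) = θ.hom := by
    ext a
    simp [coord, θ, Scheme.Hom.appLE, Scheme.residue]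
    rfl
  rw [hhom]
  exact hfin.to_isIntegral x

theorem germ_closedPointTo_aux (π : T ⟶ X) (A : X.Opens) (τ : T) (hτ : π τ ∈ A) (a : Γ(X, A))
    (μ : Spec (T.presheaf.stalk τ) ⟶ X) (hμ : μ = T.fromSpecStalk τ ≫ π)
    (h : μ (closedPoint (T.presheaf.stalk τ)) ∈ A) :
    Scheme.stalkClosedPointTo μ (X.presheaf.germ A _ h a) = coord π A τ hτ a := by
  subst hμ
  rw [Scheme.stalkClosedPointTo_comp, CommRingCat.comp_apply]
  have e := Scheme.stalkClosedPointTo_fromSpecStalk τ (X := T)
  rw [e]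
  simp [coord, TopCat.Presheaf.stalkCongr]
  exact ConcreteCategory.congr_hom (TopCat.Presheaf.germ_stalkSpecializes T.presheaf _ _) _

/-- compatibility of a lift with the coordinates -/
theorem germ_closedPointTo (g : Z ⟶ X) (π : T ⟶ X) (A : X.Opens) (τ : T) (hτ : π τ ∈ A) (a : Γ(X, A))
    (l : Spec (T.presheaf.stalk τ) ⟶ Z) (hl : l ≫ g = T.fromSpecStalk τ ≫ π)
    (h : g (l (closedPoint (T.presheaf.stalk τ))) ∈ A) :
    Scheme.stalkClosedPointTo l (coord g A _ h a) = coord π A τ hτ a := by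
  rw [← germ_closedPointTo_aux π A τ hτ a (l ≫ g) hl h, Scheme.stalkClosedPointTo_comp, CommRingCat.comp_apply]
  simp [coord]

theorem closedPoint_over (g : Z ⟶ X) (π : T ⟶ X) (τ : T) (l : Spec (T.presheaf.stalk τ) ⟶ Z)
    (hl : l ≫ g = T.fromSpecStalk τ ≫ π) : g (l (closedPoint (T.presheaf.stalk τ))) = π τ := by
  rw [← Scheme.Hom.comp_apply, hl, Scheme.Hom.comp_apply, Scheme.fromSpecStalk_closedPoint]

theorem eq_zero_of_generic [IsIntegral Z] (c : Z) (hc : c = genericPoint Z) (b : Z.presheaf.stalk c) (hb : ¬ IsUnit b) :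
    b = 0 := by
  subst hc
  by_contra h
  exact hb (Ne.isUnit (G₀ := Z.functionField) h)

/-- the inductive step: a representation `z φ(b) = φ(a)` with `φ b` of bounded order makes the centre non-closed -/
theorem exists_not_closed_aux [IsIntegral X] (hF : FinNorm X) [IsIntegral T] [IsNoetherian T] (π : T ⟶ X) [IsProper π]
    (hT : Pi1.IsNormalScheme T) (hπ : ∃ V : X.Opens, (V : Set X).Nonempty ∧ IsIso (π ∣_ V)) (τ : T)
    (hτ : ringKrullDim (T.presheaf.stalk τ) ≤ 1) {A : X.Opens} (hA : IsAffineOpen A) (hτA : π τ ∈ A)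
    (z : T.presheaf.stalk τ)
    (hz : ¬ ((residue (T.presheaf.stalk τ)).comp (coord π A τ hτA)).IsIntegralElem (residue _ z)) :
    ∀ (n : ℕ) (Z : Scheme.{u}) (g : Z ⟶ X), Good g → ∀ (l : Spec (T.presheaf.stalk τ) ⟶ Z),
      l ≫ g = T.fromSpecStalk τ ≫ π → ∀ a b : Z.presheaf.stalk (l (closedPoint (T.presheaf.stalk τ))),
      Scheme.stalkClosedPointTo l b ∉ maximalIdeal (T.presheaf.stalk τ) ^ n →
      z * Scheme.stalkClosedPointTo l b = Scheme.stalkClosedPointTo l a →
      ∃ (W : Scheme.{u}) (r : W ⟶ Z), Good (r ≫ g) ∧ IsProper r ∧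
        ∀ l' : Spec (T.presheaf.stalk τ) ⟶ W, l' ≫ r ≫ g = T.fromSpecStalk τ ≫ π →
          ¬ IsClosed ({l' (closedPoint (T.presheaf.stalk τ))} : Set W) := by
  intro n
  induction n with
  | zero =>
    intro Z g _ l _ a b hb _
    exact absurd (by simp) hb
  | succ n ih =>
    intro Z g hg l hl a b hb hab
    by_cases hc : IsClosed ({l (closedPoint (T.presheaf.stalk τ))} : Set Z)
    swap
    · refine ⟨Z, 𝟙 Z, by rwa [Category.id_comp], inferInstance, fun l' hl' => ?_⟩
      rw [Category.id_comp] at hl'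
      rwa [lift_unique hg π hπ τ l' l hl' hl]
    haveI := hg.int
    haveI := hg.proper
    have hgc : g (l (closedPoint (T.presheaf.stalk τ))) ∈ A := by rw [closedPoint_over g π τ l hl]; exact hτA
    have hb0 : Scheme.stalkClosedPointTo l b ≠ 0 := fun h => hb (h ▸ Submodule.zero_mem _)
    have hbu : ¬ IsUnit b := fun hu => hz (by
      obtain ⟨w, hw⟩ := hu.exists_right_inv
      have hzw : z = Scheme.stalkClosedPointTo l (a * w) := by
        rw [map_mul, ← hab, mul_assoc, ← map_mul, hw, map_one, mul_one]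
      obtain ⟨p, hp, hp0⟩ := isIntegralElem_residue g _ hc hA hgc (residue _ (a * w))
      refine ⟨p, hp, ?_⟩
      have h1 := congrArg (IsLocalRing.ResidueField.map (Scheme.stalkClosedPointTo l).hom) hp0
      rw [map_zero, Polynomial.hom_eval₂, IsLocalRing.ResidueField.map_residue, ← hzw] at h1
      refine Eq.trans (congrArg (fun f => p.eval₂ f (residue _ z)) ?_) h1
      ext x
      simp [germ_closedPointTo g π A τ hτA x l hl hgc])
    have hau : ¬ IsUnit a := fun hu => by
      have h1 : IsUnit (Scheme.stalkClosedPointTo l a) := hu.map (Scheme.stalkClosedPointTo l).hom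
      rw [← hab] at h1
      exact hbu (isUnit_of_map_unit (Scheme.stalkClosedPointTo l).hom b (isUnit_of_mul_isUnit_right h1))
    have hne : l (closedPoint (T.presheaf.stalk τ)) ≠ genericPoint Z := fun h =>
      hb0 (by rw [eq_zero_of_generic _ h b hbu, map_zero])
    obtain ⟨W, r, hr, hrp, hs, -⟩ := exists_step hF hg _ hc hne
    haveI := hrp
    obtain ⟨l', hl'⟩ := exists_lift hr π hT hπ τ hτ
    obtain rfl : l' ≫ r = l := lift_unique hg π hπ τ _ _ (by rw [Category.assoc, hl']) hl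
    obtain ⟨s, hsu, hdiv⟩ := hs (l' (closedPoint (T.presheaf.stalk τ))) rfl
    obtain ⟨a', ha'⟩ := hdiv a hau
    obtain ⟨b', hb'⟩ := hdiv b hbu
    have hφ : ∀ x, Scheme.stalkClosedPointTo (l' ≫ r) x =
        Scheme.stalkClosedPointTo l' (r.stalkMap (l' (closedPoint (T.presheaf.stalk τ))) x) := fun x => by
      rw [Scheme.stalkClosedPointTo_comp]; rfl
    have hsm : Scheme.stalkClosedPointTo l' s ∈ maximalIdeal (T.presheaf.stalk τ) := fun hu =>
      hsu (isUnit_of_map_unit (Scheme.stalkClosedPointTo l').hom s hu)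
    have hbφ : Scheme.stalkClosedPointTo (l' ≫ r) b =
        Scheme.stalkClosedPointTo l' s * Scheme.stalkClosedPointTo l' b' := by
      rw [hφ b, hb', map_mul]
    have haφ : Scheme.stalkClosedPointTo (l' ≫ r) a =
        Scheme.stalkClosedPointTo l' s * Scheme.stalkClosedPointTo l' a' := by
      rw [hφ a, ha', map_mul]
    have hb'n : Scheme.stalkClosedPointTo l' b' ∉ maximalIdeal (T.presheaf.stalk τ) ^ n := fun h => hb (by
      rw [hbφ, pow_succ']
      exact Ideal.mul_mem_mul hsm h)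
    have hab' : z * Scheme.stalkClosedPointTo l' b' = Scheme.stalkClosedPointTo l' a' := by
      have hs0 : Scheme.stalkClosedPointTo l' s ≠ 0 := fun h => hb0 (by rw [hbφ, h, zero_mul])
      apply mul_left_cancel₀ hs0
      rw [← haφ, ← hab, hbφ]
      ring
    obtain ⟨W', r', hr', hrp', hfin⟩ := ih W (r ≫ g) hr l' hl' a' b' hb'n hab'
    haveI := hrp'
    refine ⟨W', r' ≫ r, by rwa [Category.assoc], inferInstance, fun l'' hl'' => hfin l'' ?_⟩
    simpa using hl''

/-- the centre of one codimension one point can be made non-closed -/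
theorem exists_not_closed [IsIntegral X] (hF : FinNorm X) [IsIntegral T] [IsNoetherian T] (π : T ⟶ X) [IsProper π]
    (hT : Pi1.IsNormalScheme T) (hπ : ∃ V : X.Opens, (V : Set X).Nonempty ∧ IsIso (π ∣_ V)) (τ : T)
    (hτ : ringKrullDim (T.presheaf.stalk τ) ≤ 1) (hτc : ¬ IsClosed ({τ} : Set T)) {g : Z ⟶ X} (hg : Good g) :
    ∃ (W : Scheme.{u}) (r : W ⟶ Z), Good (r ≫ g) ∧ IsProper r ∧
      ∀ l' : Spec (T.presheaf.stalk τ) ⟶ W, l' ≫ r ≫ g = T.fromSpecStalk τ ≫ π →
        ¬ IsClosed ({l' (closedPoint (T.presheaf.stalk τ))} : Set W) := by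
  obtain ⟨l, hl⟩ := exists_lift hg π hT hπ τ hτ
  by_cases hc : IsClosed ({l (closedPoint (T.presheaf.stalk τ))} : Set Z)
  swap
  · refine ⟨Z, 𝟙 Z, by rwa [Category.id_comp], inferInstance, fun l' hl' => ?_⟩
    rw [Category.id_comp] at hl'
    rwa [lift_unique hg π hπ τ l' l hl' hl]
  haveI := hg.proper
  have hx : IsClosed ({π τ} : Set X) := by
    rw [← closedPoint_over g π τ l hl, ← Set.image_singleton]
    exact g.isClosedMap _ hc
  obtain ⟨A, hA, hτA, -⟩ := exists_isAffineOpen_mem_and_subset (x := π τ) (U := (⊤ : X.Opens)) trivial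
  obtain ⟨z, hz⟩ := exists_not_integral π hA τ hτA hτc hx
  obtain ⟨V, hV, hiso⟩ := hπ
  obtain ⟨a₀, b₀, hb₀, hab₀⟩ := exists_frac π V hV hiso hA τ hτA z
  have hgc : g (l (closedPoint (T.presheaf.stalk τ))) ∈ A := by rw [closedPoint_over g π τ l hl]; exact hτA
  obtain ⟨n, hn⟩ : ∃ n, coord π A τ hτA b₀ ∉ maximalIdeal (T.presheaf.stalk τ) ^ n := by
    by_contra h
    push Not at h
    apply hb₀
    have h1 : coord π A τ hτA b₀ ∈ ⨅ i : ℕ, maximalIdeal (T.presheaf.stalk τ) ^ i := Ideal.mem_iInf.2 h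
    rwa [Ideal.iInf_pow_eq_bot_of_isLocalRing _ (IsLocalRing.maximalIdeal.isMaximal _).ne_top, Ideal.mem_bot] at h1
  refine exists_not_closed_aux hF π hT ⟨V, hV, hiso⟩ τ hτ hA hτA z hz n Z g hg l hl
    (coord g A _ hgc a₀) (coord g A _ hgc b₀) ?_ ?_
  · rwa [germ_closedPointTo g π A τ hτA b₀ l hl hgc]
  · rwa [germ_closedPointTo g π A τ hτA b₀ l hl hgc, germ_closedPointTo g π A τ hτA a₀ l hl hgc]

end Groth.Agent.NormBlow
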