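import Groth.Agent.NormBlow.Main

/-!
Rational maps to proper schemes extend after normalized point blow-ups.
-/

set_option autoImplicit false
set_option backward.isDefEq.respectTransparency false
set_option backward.isDefEq.respectTransparency.types false
set_option linter.style.haveILetI false

universe u

open CategoryTheory CategoryTheory.Limits AlgebraicGeometry TopologicalSpace

noncomputable section

namespace Groth.Agent.NormBlow

theorem extend {S : Scheme.{u}} (X Y : Scheme.{u}) (p : X ⟶ S) (q : Y ⟶ S) [IsProper q]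
    [IsIntegral X] [IsNoetherian X] (hN : ∀ V : X.affineOpens, CAlg.IsNagata Γ(X, V.1))
    (hdim : topologicalKrullDim X ≤ 2)
    [QuasiCompact (X.fromSpecStalk (genericPoint X))] [QuasiSeparated (X.fromSpecStalk (genericPoint X))]
    (U : X.Opens) (hU : (U : Set X).Nonempty) (f : (U : Scheme.{u}) ⟶ Y) (hf : f ≫ q = U.ι ≫ p) :
    ∃ (Xn : Scheme.{u}) (g : Xn ⟶ Curv2.normalization X) (fn : Xn ⟶ Y), Resolve.IsNormPtBlowupSeq g ∧
      fn ≫ q = (g ≫ Curv2.normalizationι X) ≫ p ∧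
      ((g ≫ Curv2.normalizationι X) ⁻¹ᵁ U).ι ≫ fn = ((g ≫ Curv2.normalizationι X) ∣_ U) ≫ f := by
  let ι := Curv2.normalizationι X
  haveI hfinι : IsFinite ι := NormCoker.isFinite_normalizationι X hN
  haveI : IsIntegral (Curv2.normalization X) := NormSmoothBC.isIntegral_normalization
  have hn : Pi1.IsNormalScheme (Curv2.normalization X) := NormSmoothBC.isNormal
  haveI : IsNoetherian (Curv2.normalization X) := isNoetherian_of_proper ι
  have hN₀ := isNagata_of_lft ι hN
  have hdim₀ : topologicalKrullDim (Curv2.normalization X) ≤ 2 := (topologicalKrullDim_le_of_integral ι).trans hdim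
  have hU₀ : ((ι ⁻¹ᵁ U : (Curv2.normalization X).Opens) : Set (Curv2.normalization X)).Nonempty :=
    ⟨genericPoint _, show ι (genericPoint _) ∈ U by rw [NormSmoothBC.ι_genericPoint]; exact mem_of_nonempty hU⟩
  obtain ⟨T, j, s, hj, hT, hπ, hiso, hs₁, hs₂⟩ := exists_graph (ι ≫ p) q (ι ⁻¹ᵁ U) hU₀ ((ι ∣_ U) ≫ f) (by
    rw [Category.assoc, hf, ← Category.assoc, morphismRestrict_ι, Category.assoc])
  haveI := hj
  haveI := hT
  haveI := hπ
  haveI := hiso
  let π := j ≫ pullback.fst (ι ≫ p) q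
  haveI : IsNoetherian T := isNoetherian_of_proper π
  have hNT := isNagata_of_lft π hN₀
  haveI : IsFinite (Curv2.normalizationι T) := NormCoker.isFinite_normalizationι T hNT
  haveI : IsIntegral (Curv2.normalization T) := NormSmoothBC.isIntegral_normalization
  have hne := PtBlow.nonempty_preimage hU₀ hiso
  have hiso' : IsIso (Curv2.normalizationι T ∣_ π ⁻¹ᵁ (ι ⁻¹ᵁ U)) := by
    refine NormChar.exists_open_iso _ _ hne fun z hz => ?_
    haveI : IsIso (π.stalkMap z) :=
      ((MorphismProperty.isomorphisms CommRingCat).arrow_mk_iso_iff (morphismRestrictStalkMap π _ ⟨z, hz⟩)).1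
        (inferInstance : IsIso ((π ∣_ ι ⁻¹ᵁ U).stalkMap ⟨z, hz⟩))
    haveI := (hn (π z)).2
    exact IsIntegrallyClosed.of_equiv (asIso (π.stalkMap z)).commRingCatIsoToRingEquiv
  have hbir : IsIso ((Curv2.normalizationι T ≫ π) ∣_ ι ⁻¹ᵁ U) := by
    haveI := hiso'
    rw [morphismRestrict_comp]
    infer_instance
  obtain ⟨Xn, g, h, hg, hh⟩ := dominate hn (finNorm_of_nagata hN₀) hdim₀ (Curv2.normalizationι T ≫ π) NormSmoothBC.isNormal
    ⟨_, hU₀, hbir⟩
  refine ⟨Xn, g, (h ≫ Curv2.normalizationι T) ≫ j ≫ pullback.snd (ι ≫ p) q, hg.seq, ?_, ?_⟩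
  · simp only [Category.assoc, ← pullback.condition]
    rw [← hh]
    simp only [π, Category.assoc]
    rfl
  · have hn' : (g ⁻¹ᵁ (ι ⁻¹ᵁ U)).ι ≫ h ≫ Curv2.normalizationι T = (g ∣_ ι ⁻¹ᵁ U) ≫ s :=
      RZExt.eq_comp_section (f := π) (s := s) hs₁ _ (g ∣_ ι ⁻¹ᵁ U) (by
        rw [morphismRestrict_ι]
        simp only [Category.assoc, hh])
    rw [morphismRestrict_comp]
    show (g ⁻¹ᵁ (ι ⁻¹ᵁ U)).ι ≫ (h ≫ Curv2.normalizationι T) ≫ j ≫ pullback.snd (ι ≫ p) q =
      ((g ∣_ ι ⁻¹ᵁ U) ≫ (ι ∣_ U)) ≫ f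
    rw [← Category.assoc, hn', Category.assoc, hs₂]
    rfl

end Groth.Agent.NormBlow
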