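import Groth.Agent.NormBlow.Basic
import Groth.Prelude.Def_Curv2

/-!
Schemes all of whose proper birational modifications have finite normalization.
-/

set_option autoImplicit false
set_option linter.style.haveILetI false

universe u

open CategoryTheory CategoryTheory.Limits AlgebraicGeometry

namespace Groth.Agent.NormBlow

/-- every proper birational integral modification of `X` has finite normalization -/
def FinNorm (X : Scheme.{u}) : Prop :=
  ∀ (T : Scheme.{u}) [IsIntegral T] [QuasiCompact (T.fromSpecStalk (genericPoint T))]
    [QuasiSeparated (T.fromSpecStalk (genericPoint T))] (π : T ⟶ X), IsProper π →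
    (∃ V : X.Opens, (V : Set X).Nonempty ∧ IsIso (π ∣_ V)) → IsFinite (Curv2.normalizationι T)

theorem finNorm_of_nagata {X : Scheme.{u}} (hN : ∀ U : X.affineOpens, CAlg.IsNagata Γ(X, U.1)) : FinNorm X := by
  intro T _ _ _ π hπ _
  haveI := hπ
  exact NormCoker.isFinite_normalizationι T (isNagata_of_lft π hN)

end Groth.Agent.NormBlow
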