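import Groth.Agent.NormBlow.Centre

/-!
Normalized point blow-ups dominate proper birational modifications of surfaces and extend rational maps.
-/

set_option autoImplicit false
set_option backward.isDefEq.respectTransparency false
set_option backward.isDefEq.respectTransparency.types false
set_option linter.style.haveILetI false

universe u

open CategoryTheory CategoryTheory.Limits AlgebraicGeometry TopologicalSpace
open IsLocalRing (maximalIdeal closedPoint residue)

noncomputable section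

namespace Groth.Agent.NormBlow

theorem isNoetherian_of_proper {X T : Scheme.{u}} [IsNoetherian X] (π : T ⟶ X) [IsProper π] : IsNoetherian T := by
  haveI := LocallyOfFiniteType.isLocallyNoetherian π
  haveI : CompactSpace T := QuasiCompact.compactSpace_of_compactSpace π
  exact {}

/-- non-closed points outside a nonempty open of a surface form a finite set -/
theorem finite_not_closed {T : Scheme.{u}} [IsIntegral T] [IsNoetherian T] (hdim : topologicalKrullDim T ≤ 2)
    (O : T.Opens) (hO : (O : Set T).Nonempty) :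
    {τ : T | τ ∉ O ∧ ¬ IsClosed ({τ} : Set T)}.Finite := by
  obtain ⟨S, hSf, hScl, hSirr, hS⟩ := NoetherianSpace.exists_finite_set_isClosed_irreducible O.2.isClosed_compl
  choose η hη using fun t : S => QuasiSober.sober (hSirr t.1 t.2) (hScl t.1 t.2)
  haveI := hSf.to_subtype
  refine (Set.finite_range η).subset fun τ ⟨hτO, hτ⟩ => ?_
  obtain ⟨t, htS, hτt⟩ : ∃ t ∈ S, τ ∈ t := by
    have : τ ∈ ⋃₀ S := hS ▸ hτO
    exact this
  refine ⟨⟨t, htS⟩, ?_⟩
  by_contra hne
  have hsp : η ⟨t, htS⟩ ⤳ τ := (hη ⟨t, htS⟩).specializes hτt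
  have hmem : η ⟨t, htS⟩ ∈ ((O : Set T)ᶜ) := hS ▸ ⟨t, htS, (hη ⟨t, htS⟩).mem⟩
  have hgne : genericPoint T ≠ η ⟨t, htS⟩ := fun h => hmem (h ▸ mem_of_nonempty hO)
  have h1 := Order.coheight_add_one_le (GrpField.lt_of_specializes hsp hne)
  have h2 := Order.coheight_add_one_le (GrpField.lt_of_specializes (genericPoint_specializes (η ⟨t, htS⟩)) hgne)
  have h3 := dim_le_one_of_not_isClosed hdim hτ
  rw [ringKrullDim_stalk_eq_coheight] at h3
  have h3' : Order.coheight τ ≤ 1 := WithBot.coe_le_coe.1 h3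
  have h4 : Order.coheight (genericPoint T) + 1 + 1 ≤ 1 := ((add_le_add_left h2 1).trans h1).trans h3'
  have h5 : (2 : ℕ∞) ≤ 1 := le_trans (by rw [add_assoc, one_add_one_eq_two]; exact le_add_self) h4
  exact absurd h5 (by decide)

/-- all centres of the finitely many curves can be made non-closed simultaneously -/
theorem exists_stage {X T : Scheme.{u}} [IsIntegral X] [IsNoetherian X] (hX : Pi1.IsNormalScheme X)
    (hF : FinNorm X) [IsIntegral T] [IsNoetherian T] (π : T ⟶ X) [IsProper π]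
    (hT : Pi1.IsNormalScheme T) (hπ : ∃ V : X.Opens, (V : Set X).Nonempty ∧ IsIso (π ∣_ V))
    (hdimT : topologicalKrullDim T ≤ 2) {E : Set T} (hE : E.Finite) (hEc : ∀ τ ∈ E, ¬ IsClosed ({τ} : Set T)) :
    ∃ (Z : Scheme.{u}) (g : Z ⟶ X), Good g ∧ ∀ τ ∈ E, ∀ l : Spec (T.presheaf.stalk τ) ⟶ Z,
      l ≫ g = T.fromSpecStalk τ ≫ π → ¬ IsClosed ({l (closedPoint (T.presheaf.stalk τ))} : Set Z) := by
  induction E, hE using Set.Finite.induction_on with
  | empty => exact ⟨X, 𝟙 X, Good.refl hX, fun τ h => h.elim⟩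
  | @insert τ₀ E' _ _ ih =>
    obtain ⟨Z, g, hg, hgE⟩ := ih fun τ h => hEc τ (Set.mem_insert_of_mem _ h)
    have h0 := hEc τ₀ (Set.mem_insert _ _)
    obtain ⟨W, r, hr, hrp, hrτ⟩ := exists_not_closed hF π hT hπ τ₀ (dim_le_one_of_not_isClosed hdimT h0) h0 hg
    refine ⟨W, r ≫ g, hr, fun τ hτ l hl hc => ?_⟩
    rcases Set.mem_insert_iff.1 hτ with rfl | hτ'
    · exact hrτ l hl hc
    · haveI := hrp
      refine hgE τ hτ' (l ≫ r) (by rw [Category.assoc, hl]) ?_
      rw [Scheme.Hom.comp_apply, ← Set.image_singleton]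
      exact r.isClosedMap _ hc

/-- normalized blow-ups dominate normal proper birational modifications of normal surfaces -/
theorem dominate {X T : Scheme.{u}} [IsIntegral X] [IsNoetherian X] (hX : Pi1.IsNormalScheme X)
    (hF : FinNorm X) (hdim : topologicalKrullDim X ≤ 2) [IsIntegral T] (π : T ⟶ X)
    [IsProper π] (hT : Pi1.IsNormalScheme T) (hπ : ∃ V : X.Opens, (V : Set X).Nonempty ∧ IsIso (π ∣_ V)) :
    ∃ (Z : Scheme.{u}) (g : Z ⟶ X) (h : Z ⟶ T), Good g ∧ h ≫ π = g := by
  haveI := isNoetherian_of_proper π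
  obtain ⟨V, hV, hiso⟩ := hπ
  have hdimT : topologicalKrullDim T ≤ 2 := dim_le_of_birational π V hV hiso (by norm_num) hdim
  have hne := PtBlow.nonempty_preimage hV hiso
  have hEfin := finite_not_closed hdimT (π ⁻¹ᵁ V) hne
  obtain ⟨Z, g, hg, hgE⟩ := exists_stage hX hF π hT ⟨V, hV, hiso⟩ hdimT hEfin fun τ h => h.2
  haveI := hg.int
  haveI := hg.noeth
  haveI := hg.proper
  obtain ⟨V₀, hV₀, hiso₀⟩ := hg.bir
  have hdimZ : topologicalKrullDim Z ≤ 2 := dim_le_of_birational g V₀ hV₀ hiso₀ (by norm_num) hdim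
  have hW : ((V₀ ⊓ V : X.Opens) : Set X).Nonempty := ⟨_, mem_of_nonempty hV₀, mem_of_nonempty hV⟩
  have hisoW := PtBlow.isIso_restrict_le π (inf_le_right : V₀ ⊓ V ≤ V) hiso
  have hgisoW := PtBlow.isIso_restrict_le g (inf_le_left : V₀ ⊓ V ≤ V₀) hiso₀
  obtain ⟨Γ', j, hj, hΓ, hp₁, hp₂, hiso₁, hiso₂⟩ := exists_correspondence g π _ hW hgisoW hisoW
  haveI := hj
  haveI := hΓ
  haveI := hp₁
  haveI := hp₂
  haveI := isNoetherian_of_proper (j ≫ pullback.fst g π)
  have hne₁ := PtBlow.nonempty_preimage hW hgisoW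
  have hne₂ := PtBlow.nonempty_preimage hW hisoW
  have hfin : ∀ y : Z, ((j ≫ pullback.fst g π) ⁻¹' {y}).Finite := by
    intro y
    by_cases hy : IsClosed ({y} : Set Z)
    swap
    · exact BiratFib.finite_fiber _ (g ⁻¹ᵁ (V₀ ⊓ V)) (dense_of_nonempty (PtBlow.nonempty_preimage hne₁ hiso₁)) hiso₁ y
        (dim_le_one_of_not_isClosed hdimZ hy)
    refine PtBlow.finite_of_isClosed_singletons (hy.preimage (j ≫ pullback.fst g π).continuous) fun γ hγ => ?_
    by_contra hγc
    obtain ⟨γ', hsp, hne'⟩ : ∃ γ', γ ⤳ γ' ∧ γ' ≠ γ := by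
      by_contra h
      push Not at h
      exact hγc (closure_eq_iff_isClosed.1 (Set.Subset.antisymm
        (fun w hw => h w (specializes_iff_mem_closure.2 hw)) subset_closure))
    have hγ' : (j ≫ pullback.fst g π) γ' = y :=
      hsp.mem_closed (hy.preimage (j ≫ pullback.fst g π).continuous) hγ
    have hγy : (j ≫ pullback.fst g π) γ = y := hγ
    have hsp₂ := hsp.map (j ≫ pullback.snd g π).continuous
    have hτne : (j ≫ pullback.snd g π) γ ≠ (j ≫ pullback.snd g π) γ' := fun h => hne'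
      (j.isClosedEmbedding.injective (eq_of_specializes_pullback g π hy (hsp.map j.continuous) hγy hγ' h).symm)
    have hτc : ¬ IsClosed ({(j ≫ pullback.snd g π) γ} : Set T) := fun h => hτne
      (Set.mem_singleton_iff.1 (hsp₂.mem_closed h rfl)).symm
    have hgy : g y = π ((j ≫ pullback.snd g π) γ) := by
      rw [← hγy, ← Scheme.Hom.comp_apply, ← Scheme.Hom.comp_apply, Category.assoc, Category.assoc, pullback.condition]
    have hτV : (j ≫ pullback.snd g π) γ ∉ π ⁻¹ᵁ V := by
      intro h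
      have hgy' : g y = π ((j ≫ pullback.snd g π) γ') := by
        rw [← hγ', ← Scheme.Hom.comp_apply, ← Scheme.Hom.comp_apply, Category.assoc, Category.assoc, pullback.condition]
      have h' : (j ≫ pullback.snd g π) γ' ∈ π ⁻¹ᵁ V := by
        show π ((j ≫ pullback.snd g π) γ') ∈ V
        rw [← hgy', hgy]
        exact h
      haveI := hiso
      exact hτne (congrArg Subtype.val ((π ∣_ V).homeomorph.injective (a₁ := ⟨_, h⟩) (a₂ := ⟨_, h'⟩)
        (Subtype.ext (by simpa using hgy.symm.trans hgy'))))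
    haveI := isIso_stalkMap_of_codim_one (j ≫ pullback.snd g π) hT _ hne₂ hiso₂ γ
      (dim_le_one_of_not_isClosed hdimT hτc)
    refine hgE _ ⟨hτV, hτc⟩
      (Spec.map (inv ((j ≫ pullback.snd g π).stalkMap γ)) ≫ Γ'.fromSpecStalk γ ≫ j ≫ pullback.fst g π) ?_ ?_
    · simp only [Category.assoc, pullback.condition]
      rw [← Category.assoc j, ← Scheme.SpecMap_stalkMap_fromSpecStalk_assoc, ← Spec.map_comp_assoc,
        IsIso.hom_inv_id, Spec.map_id, Category.id_comp]
    · have h : Spec.map (inv ((j ≫ pullback.snd g π).stalkMap γ))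
          (closedPoint (T.presheaf.stalk ((j ≫ pullback.snd g π) γ))) = closedPoint (Γ'.presheaf.stalk γ) :=
        IsLocalRing.comap_closedPoint _
      rw [Scheme.Hom.comp_apply, Scheme.Hom.comp_apply, h, Scheme.fromSpecStalk_closedPoint]
      rw [hγy]
      exact hy
  haveI := isIso_of_finite_fibres (j ≫ pullback.fst g π) hg.normal _ hne₁ hiso₁ hfin
  refine ⟨Z, g, inv (j ≫ pullback.fst g π) ≫ j ≫ pullback.snd g π, hg, ?_⟩
  simp only [Category.assoc, ← pullback.condition]
  rw [← Category.assoc j, IsIso.inv_hom_id_assoc]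

end Groth.Agent.NormBlow
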