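import Groth.Agent.NormBlow.Basic
import Groth.Agent.NormBlow.Graph
import Groth.Agent.NormBlow.Fin
import Groth.Agent.NormUniv.Basic
import Groth.Agent.BlowUpExist.Global
import Groth.Agent.W7Fib.Birat
import Groth.Agent.BlowUpLib.Basic
import Groth.Agent.FpqcDescent.IdealGlue
import Groth.Prelude.Def_ResolveSeq

/-!
Stages of normalized point blow-ups of a normal surface: existence of steps, lifts of codimension one points.
-/

set_option autoImplicit false
set_option backward.isDefEq.respectTransparency false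
set_option backward.isDefEq.respectTransparency.types false
set_option linter.style.haveILetI false

universe u

open CategoryTheory CategoryTheory.Limits AlgebraicGeometry TopologicalSpace
open IsLocalRing (maximalIdeal closedPoint residue)

noncomputable section

namespace Groth.Agent.NormBlow

/-- a stage of normalized blow-ups in closed points -/
structure Good {Z X : Scheme.{u}} (g : Z ⟶ X) : Prop where
  seq : Resolve.IsNormPtBlowupSeq g
  int : IsIntegral Z
  noeth : IsNoetherian Z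
  normal : Pi1.IsNormalScheme Z
  proper : IsProper g
  bir : ∃ V : X.Opens, (V : Set X).Nonempty ∧ IsIso (g ∣_ V)

theorem Good.refl {X : Scheme.{u}} [IsIntegral X] [IsNoetherian X] (hn : Pi1.IsNormalScheme X) : Good (𝟙 X) :=
  ⟨Resolve.IsNormPtBlowupSeq.iso (Iso.refl X), ‹_›, ‹_›, hn, inferInstance, ⊤, ⟨genericPoint X, trivial⟩,
    inferInstance⟩

theorem map_germ_mem_maximalIdeal {X Y : Scheme.{u}} (b : Y ⟶ X) (A : X.Opens) (W : Y.Opens) (e : W ≤ b ⁻¹ᵁ A)
    (y : Y) (hy : y ∈ W) (r : Γ(X, A)) (hr : X.presheaf.germ A (b y) (e hy) r ∈ maximalIdeal (X.presheaf.stalk (b y))) :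
    Y.presheaf.germ W y hy (b.appLE A W e r) ∈ maximalIdeal (Y.presheaf.stalk y) := by
  have h : Y.presheaf.germ W y hy (b.appLE A W e r) = b.stalkMap y (X.presheaf.germ A (b y) (e hy) r) := by
    simp [Scheme.Hom.appLE]
  rw [h]
  exact fun hu => hr (isUnit_of_map_unit (b.stalkMap y).hom _ hu)

theorem mem_ideal_point {X : Scheme.{u}} (x : X) (hx : IsClosed ({x} : Set X)) (A : X.affineOpens) (hxA : x ∈ A.1)
    (r : Γ(X, A.1)) :
    r ∈ (Scheme.IdealSheafData.vanishingIdeal ⟨{x}, hx⟩).ideal A ↔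
      X.presheaf.germ A.1 x hxA r ∈ maximalIdeal (X.presheaf.stalk x) := by
  have hloc := A.2.isLocalization_stalk ⟨x, hxA⟩
  letI := TopCat.Presheaf.algebra_section_stalk X.presheaf (⟨x, hxA⟩ : A.1)
  have h1 : X.presheaf.germ A.1 x hxA r ∈ maximalIdeal (X.presheaf.stalk x) ↔
      r ∈ (A.2.primeIdealOf ⟨x, hxA⟩).asIdeal :=
    @IsLocalization.AtPrime.to_map_mem_maximal_iff _ _ (X.presheaf.stalk x) _ _ _ _ hloc r inferInstance
  rw [h1]
  show r ∈ PrimeSpectrum.vanishingIdeal (A.2.fromSpec ⁻¹' ({x} : Set X)) ↔ _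
  rw [PrimeSpectrum.mem_vanishingIdeal]
  refine ⟨fun h => h _ (A.2.fromSpec_primeIdealOf ⟨x, hxA⟩), fun h p hp => ?_⟩
  rwa [show p = A.2.primeIdealOf ⟨x, hxA⟩ from
    A.2.fromSpec.isOpenEmbedding.injective (hp.trans (A.2.fromSpec_primeIdealOf ⟨x, hxA⟩).symm)]

/-- a normalized blow-up in a closed point, with the Cartier property of the centre -/
theorem exists_step {X Z : Scheme.{u}} [IsIntegral X] (hF : FinNorm X) {g : Z ⟶ X} (hg : Good g) (c : Z) (hc : IsClosed ({c} : Set Z))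
    (hne : haveI := hg.int; c ≠ genericPoint Z) :
    ∃ (W : Scheme.{u}) (r : W ⟶ Z), Good (r ≫ g) ∧ IsProper r ∧
      (∀ y : W, r y = c → ∃ s : W.presheaf.stalk y, ¬ IsUnit s ∧
        ∀ a : Z.presheaf.stalk (r y), ¬ IsUnit a → s ∣ r.stalkMap y a) ∧
      ∀ (P : Scheme.{u}) [IsIntegral P], Pi1.IsNormalScheme P → ∀ p : P ⟶ Z,
        (haveI := hg.int; p (genericPoint P) = genericPoint Z) →
        BlowUp.IsEffCartierIdeal ((Scheme.IdealSheafData.vanishingIdeal ⟨{c}, hc⟩).comap p) →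
        ∃ p' : P ⟶ W, p' ≫ r = p := by
  haveI := hg.int
  haveI := hg.noeth
  haveI := hg.proper
  obtain ⟨Z', b, hb⟩ := BlowUpExist.exists_isBlowUp Z (Scheme.IdealSheafData.vanishingIdeal ⟨{c}, hc⟩)
  have hsupp : ((Scheme.IdealSheafData.vanishingIdeal ⟨{c}, hc⟩).support : Set Z) = {c} := by
    rw [Scheme.IdealSheafData.coe_support_vanishingIdeal]
    rfl
  have hbot : Scheme.IdealSheafData.vanishingIdeal ⟨{c}, hc⟩ ≠ ⊥ := fun h => hne (by
    have h' : genericPoint Z ∈ ({c} : Set Z) := by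
      rw [← hsupp, h, Scheme.IdealSheafData.support_bot]; trivial
    exact h'.symm)
  haveI : IsIntegral Z' := W7Fib.isIntegral_blowUp hbot hb
  haveI : QuasiCompact (Z'.fromSpecStalk (genericPoint Z')) := by
    haveI : IsProper b := BlowUpExist.isProper_of_isFiniteType hb fun U => by
      haveI : IsNoetherianRing Γ(Z, U.1) := IsLocallyNoetherian.component_noetherian U
      exact IsNoetherian.noetherian _
    haveI := LocallyOfFiniteType.isLocallyNoetherian b
    haveI : CompactSpace Z' := QuasiCompact.compactSpace_of_compactSpace b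
    haveI : IsNoetherian Z' := {}
    infer_instance
  obtain ⟨V, hV, hiso⟩ := hg.bir
  haveI := hiso
  have hgc : IsClosed ({g c} : Set X) := by
    rw [← Set.image_singleton]
    exact g.isClosedMap _ hc
  have hgen : g (genericPoint Z) = genericPoint X := StrictRat.map_genericPoint' g V hV
  have hηV := mem_of_nonempty hV
  have hgne : g c ≠ genericPoint X := fun h => hne (by
    have hcV : g c ∈ V := h ▸ hηV
    have hηV' : g (genericPoint Z) ∈ V := hgen ▸ hηV
    exact congrArg Subtype.val ((g ∣_ V).homeomorph.injective (a₁ := ⟨c, hcV⟩) (a₂ := ⟨genericPoint Z, hηV'⟩)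
      (Subtype.ext (by simpa using h.trans hgen.symm))))
  let V' : X.Opens := V ⊓ ⟨{g c}ᶜ, hgc.isOpen_compl⟩
  have hV' : (V' : Set X).Nonempty := ⟨genericPoint X, hηV, fun h => hgne h.symm⟩
  haveI hgV' : IsIso (g ∣_ V') := PtBlow.isIso_restrict_le g inf_le_left hiso
  haveI hbV' : IsIso (b ∣_ g ⁻¹ᵁ V') := PtBlow.isIso_restrict_le b (fun z hz => by
    show z ∉ ((Scheme.IdealSheafData.vanishingIdeal ⟨{c}, hc⟩).support : Set Z)
    rw [hsupp]
    rintro rfl
    exact hz.2 rfl) (BlowUpLib.isIso_restrict hb)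
  haveI : IsProper b := BlowUpExist.isProper_of_isFiniteType hb fun U => by
    haveI : IsNoetherianRing Γ(Z, U.1) := IsLocallyNoetherian.component_noetherian U
    exact IsNoetherian.noetherian _
  haveI : IsFinite (Curv2.normalizationι Z') := hF Z' (b ≫ g) inferInstance ⟨V', hV', by
    rw [morphismRestrict_comp]
    infer_instance⟩
  haveI hp : IsProper (Curv2.normalizationι Z' ≫ b) := inferInstance
  haveI : IsNoetherian (Curv2.normalization Z') := by
    haveI := LocallyOfFiniteType.isLocallyNoetherian (Curv2.normalizationι Z' ≫ b)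
    haveI : CompactSpace (Curv2.normalization Z') :=
      QuasiCompact.compactSpace_of_compactSpace (Curv2.normalizationι Z' ≫ b)
    exact {}
  refine ⟨Curv2.normalization Z', Curv2.normalizationι Z' ≫ b,
    ⟨?_, NormSmoothBC.isIntegral_normalization, ‹_›, NormSmoothBC.isNormal, inferInstance, ?_⟩, hp, ?_, ?_⟩
  · rw [Category.assoc]
    exact Resolve.IsNormPtBlowupSeq.step b g c hc hb hg.seq
  · haveI := hgV'
    haveI : IsIso (Curv2.normalizationι Z' ∣_ b ⁻¹ᵁ (g ⁻¹ᵁ V')) := by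
      refine NormChar.exists_open_iso _ (b ⁻¹ᵁ (g ⁻¹ᵁ V')) (PtBlow.nonempty_preimage (PtBlow.nonempty_preimage hV' hgV') hbV')
        fun z hz => ?_
      haveI : IsIso (b.stalkMap z) :=
        ((MorphismProperty.isomorphisms CommRingCat).arrow_mk_iso_iff (morphismRestrictStalkMap b _ ⟨z, hz⟩)).1
          (inferInstance : IsIso ((b ∣_ g ⁻¹ᵁ V').stalkMap ⟨z, hz⟩))
      haveI := (hg.normal (b z)).2
      exact IsIntegrallyClosed.of_equiv (asIso (b.stalkMap z)).commRingCatIsoToRingEquiv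
    refine ⟨V', hV', ?_⟩
    rw [morphismRestrict_comp, morphismRestrict_comp]
    infer_instance
  · intro y hy
    obtain ⟨U, hyU, f, -, hf⟩ := hb.1 (Curv2.normalizationι Z' y)
    obtain ⟨A, hA, hyA, -⟩ := exists_isAffineOpen_mem_and_subset (x := b (Curv2.normalizationι Z' y))
      (U := (⊤ : Z.Opens)) trivial
    obtain ⟨O, hO, hyO, hOle⟩ := exists_isAffineOpen_mem_and_subset (x := Curv2.normalizationι Z' y)
      (U := U.1 ⊓ b ⁻¹ᵁ A) ⟨hyU, hyA⟩
    have e : O ≤ b ⁻¹ᵁ A := fun z hz => (hOle hz).2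
    have eU : O ≤ U.1 := fun z hz => (hOle hz).1
    let f' : Γ(Z', O) := Z'.presheaf.map (homOfLE eU).op f
    have hspan : ((Scheme.IdealSheafData.vanishingIdeal ⟨{c}, hc⟩).ideal ⟨A, hA⟩).map (b.appLE A O e).hom =
        Ideal.span {f'} := by
      rw [← FpqcDescent.ideal_comap_appLE _ b ⟨A, hA⟩ ⟨O, hO⟩ e,
        ← ((Scheme.IdealSheafData.vanishingIdeal ⟨{c}, hc⟩).comap b).map_ideal (U := ⟨O, hO⟩) (V := U) eU, hf,
        Ideal.map_span, Set.image_singleton]
      rfl
    have hcy : b (Curv2.normalizationι Z' y) = c := by rw [← hy]; rfl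
    have hmem : ∀ r : Γ(Z, A), r ∈ (Scheme.IdealSheafData.vanishingIdeal ⟨{c}, hc⟩).ideal ⟨A, hA⟩ ↔
        Z.presheaf.germ A (b (Curv2.normalizationι Z' y)) hyA r ∈
          maximalIdeal (Z.presheaf.stalk (b (Curv2.normalizationι Z' y))) := fun r => by
      subst hcy
      exact mem_ideal_point _ hc ⟨A, hA⟩ hyA r
    refine ⟨(Curv2.normalizationι Z').stalkMap y (Z'.presheaf.germ O _ hyO f'), ?_, ?_⟩
    · intro hu
      have hu' : IsUnit (Z'.presheaf.germ O _ hyO f') :=
        isUnit_of_map_unit ((Curv2.normalizationι Z').stalkMap y).hom _ hu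
      have hle : ((Scheme.IdealSheafData.vanishingIdeal ⟨{c}, hc⟩).ideal ⟨A, hA⟩).map (b.appLE A O e).hom ≤
          (maximalIdeal (Z'.presheaf.stalk (Curv2.normalizationι Z' y))).comap (Z'.presheaf.germ O _ hyO).hom :=
        Ideal.map_le_iff_le_comap.2 fun r hr => map_germ_mem_maximalIdeal b A O e _ hyO r ((hmem r).1 hr)
      rw [hspan, Ideal.span_singleton_le_iff_mem] at hle
      exact hle hu'
    · intro a ha
      have hloc := hA.isLocalization_stalk ⟨b (Curv2.normalizationι Z' y), hyA⟩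
      letI := TopCat.Presheaf.algebra_section_stalk Z.presheaf (⟨b (Curv2.normalizationι Z' y), hyA⟩ : A)
      let p := (hA.primeIdealOf ⟨b (Curv2.normalizationι Z' y), hyA⟩).asIdeal
      obtain ⟨⟨r, t⟩, hrt⟩ := @IsLocalization.surj _ _ p.primeCompl
        (Z.presheaf.stalk (b (Curv2.normalizationι Z' y))) _ _ hloc a
      have ht : IsUnit (Z.presheaf.germ A _ hyA t.1) := @IsLocalization.map_units _ _ p.primeCompl
        (Z.presheaf.stalk (b (Curv2.normalizationι Z' y))) _ _ hloc t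
      have hr : r ∈ (Scheme.IdealSheafData.vanishingIdeal ⟨{c}, hc⟩).ideal ⟨A, hA⟩ := (hmem r).2 (by
        intro hu
        refine ha (isUnit_of_mul_isUnit_left (y := Z.presheaf.germ A _ hyA t.1) ?_)
        exact hrt ▸ hu)
      have hf' : b.appLE A O e r ∈ Ideal.span {f'} := hspan ▸ Ideal.mem_map_of_mem _ hr
      obtain ⟨d, hd⟩ := Ideal.mem_span_singleton.1 hf'
      have hr' : (Curv2.normalizationι Z' ≫ b).stalkMap y (Z.presheaf.germ A _ hyA r) =
          (Curv2.normalizationι Z').stalkMap y (Z'.presheaf.germ O _ hyO f') *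
            (Curv2.normalizationι Z').stalkMap y (Z'.presheaf.germ O _ hyO d) := by
        rw [← map_mul, ← map_mul, ← hd, Scheme.Hom.stalkMap_comp]
        simp [Scheme.Hom.appLE]
      have h2 : (Curv2.normalizationι Z' ≫ b).stalkMap y a *
          (Curv2.normalizationι Z' ≫ b).stalkMap y (Z.presheaf.germ A _ hyA t.1) =
          (Curv2.normalizationι Z' ≫ b).stalkMap y (Z.presheaf.germ A _ hyA r) :=
        (map_mul ((Curv2.normalizationι Z' ≫ b).stalkMap y).hom _ _).symm.trans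
          (congrArg ((Curv2.normalizationι Z' ≫ b).stalkMap y) hrt)
      have ht' := ht.map ((Curv2.normalizationι Z' ≫ b).stalkMap y).hom
      exact ht'.dvd_mul_right.1 ⟨_, h2.trans hr'⟩
  · intro P _ hP p hgenP hcart
    obtain ⟨l, hl, -⟩ := hb.2 P p hcart
    have hgl : l (genericPoint P) = genericPoint Z' := by
      have hne' := PtBlow.nonempty_preimage hV' hgV'
      have h1 : b (l (genericPoint P)) = genericPoint Z := by rw [← Scheme.Hom.comp_apply, hl, hgenP]
      have h2 : b (genericPoint Z') = genericPoint Z := StrictRat.map_genericPoint' b _ hne'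
      have hm1 : b (l (genericPoint P)) ∈ g ⁻¹ᵁ V' := h1 ▸ mem_of_nonempty hne'
      have hm2 : b (genericPoint Z') ∈ g ⁻¹ᵁ V' := h2 ▸ mem_of_nonempty hne'
      exact congrArg Subtype.val ((b ∣_ g ⁻¹ᵁ V').homeomorph.injective (a₁ := ⟨_, hm1⟩) (a₂ := ⟨_, hm2⟩)
        (Subtype.ext (by simpa using h1.trans h2.symm)))
    obtain ⟨l', hl', -⟩ := NormUniv.existsUnique_lift (X := Z') l (fun z => (hP z).1)
      (fun z => ⟨genericPoint P, genericPoint_specializes z, hgl⟩) (fun z => (hP z).2)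
    refine ⟨l', ?_⟩
    show l' ≫ (Z'.fromSpecStalk (genericPoint Z')).fromNormalization ≫ b = p
    rw [← Category.assoc, hl', hl]

/-- lifts of a morphism from the spectrum of a stalk are unique -/
theorem lift_unique {X Z T : Scheme.{u}} [IsIntegral X] [IsIntegral T] {g : Z ⟶ X} (hg : Good g) (π : T ⟶ X) [IsProper π]
    (hπ : ∃ V : X.Opens, (V : Set X).Nonempty ∧ IsIso (π ∣_ V)) (τ : T)
    (l₁ l₂ : Spec (T.presheaf.stalk τ) ⟶ Z) (h₁ : l₁ ≫ g = T.fromSpecStalk τ ≫ π)
    (h₂ : l₂ ≫ g = T.fromSpecStalk τ ≫ π) : l₁ = l₂ := by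
  haveI := hg.int
  haveI := hg.proper
  obtain ⟨V, hV, hiso⟩ := hg.bir
  obtain ⟨V₁, hV₁, hiso₁⟩ := hπ
  haveI := hiso
  haveI := hiso₁
  haveI : IsIntegral (Spec (T.presheaf.stalk τ)) := inferInstance
  let O : (Spec (T.presheaf.stalk τ)).Opens := (T.fromSpecStalk τ ≫ π) ⁻¹ᵁ V
  have hO : (O : Set (Spec (T.presheaf.stalk τ))).Nonempty := by
    obtain ⟨q, hq⟩ : genericPoint T ∈ Set.range (T.fromSpecStalk τ) := by
      rw [Scheme.range_fromSpecStalk]
      exact genericPoint_specializes τ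
    refine ⟨q, ?_⟩
    show π (T.fromSpecStalk τ q) ∈ V
    rw [hq, StrictRat.map_genericPoint' π V₁ hV₁]
    exact mem_of_nonempty hV
  haveI : IsDominant O.ι := ⟨by
    show Dense (Set.range O.ι)
    rw [Scheme.Opens.range_ι]
    exact dense_of_nonempty hO⟩
  refine ext_of_isDominant_of_isSeparated g (h₁.trans h₂.symm) O.ι ?_
  have key : ∀ l : Spec (T.presheaf.stalk τ) ⟶ Z, l ≫ g = T.fromSpecStalk τ ≫ π →
      Set.range (O.ι ≫ l) ⊆ Set.range (g ⁻¹ᵁ V).ι := by
    rintro l hl _ ⟨q, rfl⟩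
    rw [Scheme.Opens.range_ι]
    show (O.ι ≫ l ≫ g) q ∈ V
    rw [hl]
    exact q.2
  have hm : ∀ l (hl : l ≫ g = T.fromSpecStalk τ ≫ π),
      IsOpenImmersion.lift (g ⁻¹ᵁ V).ι (O.ι ≫ l) (key l hl) ≫ (g ∣_ V) ≫ V.ι = O.ι ≫ l ≫ g := fun l hl => by
    rw [morphismRestrict_ι, IsOpenImmersion.lift_fac_assoc, Category.assoc]
  have e : IsOpenImmersion.lift (g ⁻¹ᵁ V).ι (O.ι ≫ l₁) (key l₁ h₁) =
      IsOpenImmersion.lift (g ⁻¹ᵁ V).ι (O.ι ≫ l₂) (key l₂ h₂) := by
    rw [← cancel_mono ((g ∣_ V) ≫ V.ι), hm l₁ h₁, hm l₂ h₂, h₁, h₂]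
  rw [← IsOpenImmersion.lift_fac (g ⁻¹ᵁ V).ι (O.ι ≫ l₁) (key l₁ h₁), e, IsOpenImmersion.lift_fac]

/-- codimension one points lift to every stage -/
theorem exists_lift {X Z T : Scheme.{u}} [IsIntegral X] [IsIntegral T] [IsNoetherian T] {g : Z ⟶ X} (hg : Good g)
    (π : T ⟶ X) [IsProper π] (hT : Pi1.IsNormalScheme T) (hπ : ∃ V : X.Opens, (V : Set X).Nonempty ∧ IsIso (π ∣_ V))
    (τ : T) (hτ : ringKrullDim (T.presheaf.stalk τ) ≤ 1) :
    ∃ l : Spec (T.presheaf.stalk τ) ⟶ Z, l ≫ g = T.fromSpecStalk τ ≫ π := by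
  haveI := hg.int
  haveI := hg.noeth
  haveI := hg.proper
  obtain ⟨V₀, hV₀, hiso₀⟩ := hg.bir
  obtain ⟨V₁, hV₁, hiso₁⟩ := hπ
  have hV : ((V₀ ⊓ V₁ : X.Opens) : Set X).Nonempty := ⟨_, mem_of_nonempty hV₀, mem_of_nonempty hV₁⟩
  obtain ⟨Γ', j, hj, hΓ, hp₁, hp₂, -, hiso⟩ := exists_correspondence g π _ hV
    (PtBlow.isIso_restrict_le g inf_le_left hiso₀) (PtBlow.isIso_restrict_le π inf_le_right hiso₁)
  haveI := hΓ
  haveI := hp₂
  haveI := hiso
  let p := j ≫ pullback.snd g π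
  have hne := PtBlow.nonempty_preimage hV (PtBlow.isIso_restrict_le π inf_le_right hiso₁)
  obtain ⟨γ, hγ⟩ : τ ∈ Set.range p := by
    have hcl : IsClosed (Set.range p) := p.isClosedMap.isClosed_range
    have hmem : genericPoint T ∈ Set.range p := ⟨_, StrictRat.map_genericPoint' p _ hne⟩
    exact hcl.closure_subset_iff.2 (Set.singleton_subset_iff.2 hmem)
      (specializes_iff_mem_closure.1 (genericPoint_specializes τ))
  subst hγ
  haveI := isIso_stalkMap_of_codim_one p hT _ hne hiso γ hτ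
  refine ⟨Spec.map (inv (p.stalkMap γ)) ≫ Γ'.fromSpecStalk γ ≫ j ≫ pullback.fst g π, ?_⟩
  simp only [Category.assoc, pullback.condition]
  rw [← Category.assoc j, ← Scheme.SpecMap_stalkMap_fromSpecStalk_assoc, ← Spec.map_comp_assoc, IsIso.hom_inv_id,
    Spec.map_id, Category.id_comp]

end Groth.Agent.NormBlow
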